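import Groth.Agent.Devissage.Support
import Groth.Agent.StabLib.Obj
import Mathlib

/-!
# A module is the sum of its parts on a finite partition into open subschemes
-/

set_option autoImplicit false
set_option backward.isDefEq.respectTransparency false

universe u v w

open CategoryTheory CategoryTheory.Limits AlgebraicGeometry TopologicalSpace Opposite

noncomputable section

namespace Groth.Agent.ClopenSplit

variable {X : Scheme.{u}}

/-- the part on `U` -/
abbrev part (U : X.Opens) (F : X.Modules) : X.Modules := (Scheme.Modules.pushforward U.ι).obj (F.restrict U.ι)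

/-- the part of a morphism -/
abbrev partMap (U : X.Opens) {F G : X.Modules} (φ : F ⟶ G) : part U F ⟶ part U G :=
  (Scheme.Modules.pushforward U.ι).map ((Scheme.Modules.restrictFunctor U.ι).map φ)

theorem mono_partMap (U : X.Opens) {F G : X.Modules} (φ : F ⟶ G) [Mono φ] : Mono (partMap U φ) := by
  haveI : Mono ((Scheme.Modules.restrictFunctor U.ι).map φ) := by
    refine (QC.mono_iff_app_injective _).2 fun W s t h => QC.app_injective_of_mono φ _ ?_
    exact h
  haveI : (Scheme.Modules.pushforward U.ι).PreservesMonomorphisms :=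
    Functor.preservesMonomorphisms_of_adjunction (Scheme.Modules.pullbackPushforwardAdjunction U.ι)
  exact inferInstance

theorem isIso_lift_unitE {n : ℕ} (U : Fin n → X.Opens) (hcov : ∀ x : X, ∃ i, x ∈ U i)
    (hdis : ∀ i j, i ≠ j → U i ⊓ U j = ⊥) [HasFiniteBiproducts X.Modules] (F : X.Modules) :
    IsIso (biproduct.lift fun i => Devissage.unitE (U i) F) := by
  set Φ := biproduct.lift fun i => Devissage.unitE (U i) F with hΦ
  have hπ : ∀ (i : Fin n) (W : X.Opens) (s : Γ(F, W)),
      (biproduct.π (fun i => part (U i) F) i).app W (Φ.app W s) = QC.res F ((U i).ι.image_preimage_le W) s := by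
    intro i W s
    have h := congrArg (fun ψ : F ⟶ part (U i) F => ψ.app W s) (biproduct.lift_π (fun i => Devissage.unitE (U i) F) i)
    exact h
  rw [Scheme.Modules.Hom.isIso_iff_isIso_app]
  intro W
  rw [ConcreteCategory.isIso_iff_bijective]
  refine ⟨fun s t hst => QC.section_eq_of_locally fun x hx => ?_, fun t => ?_⟩
  · obtain ⟨i, hi⟩ := hcov x
    refine ⟨(U i).ι ''ᵁ (U i).ι ⁻¹ᵁ W, (U i).ι.image_preimage_le W, ?_, ?_⟩
    · rw [Devissage.image_preimage_ι]; exact ⟨hi, hx⟩
    · rw [← hπ, ← hπ, hst]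
  · let W' : Fin n → X.Opens := fun i => (U i).ι ''ᵁ (U i).ι ⁻¹ᵁ W
    let t' : ∀ i, Γ(F, W' i) := fun i => (biproduct.π (fun i => part (U i) F) i).app W t
    obtain ⟨s, hs, -⟩ := TopCat.Sheaf.existsUnique_gluing' ⟨F.presheaf, F.isSheaf⟩ W' W
      (fun i => homOfLE ((U i).ι.image_preimage_le W))
      (fun x hx => Opens.mem_iSup.2 ⟨(hcov x).choose, by
        show x ∈ (U _).ι ''ᵁ (U _).ι ⁻¹ᵁ W
        rw [Devissage.image_preimage_ι]; exact ⟨(hcov x).choose_spec, hx⟩⟩)
      t' (fun i j => by
        by_cases hij : i = j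
        · subst hij; rfl
        · refine QC.section_eq_of_locally (M := F) fun x hx => False.elim ?_
          have h1 : x ∈ W' i ∧ x ∈ W' j := hx
          simp only [W', Devissage.image_preimage_ι] at h1
          have : x ∈ U i ⊓ U j := ⟨h1.1.1, h1.2.1⟩
          rw [hdis i j hij] at this
          exact this)
    refine ⟨s, ?_⟩
    let B := ⨁ fun i => part (U i) F
    let ev : (B ⟶ B) →+ Γ(B, W) := AddMonoidHom.mk' (fun ψ => ψ.app W (Φ.app W s - t)) fun _ _ => rfl
    have h0 : ev (∑ i, biproduct.π (fun i => part (U i) F) i ≫ biproduct.ι (fun i => part (U i) F) i) = 0 := by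
      rw [map_sum]
      refine Finset.sum_eq_zero fun i _ => ?_
      show (biproduct.ι (fun i => part (U i) F) i).app W ((biproduct.π (fun i => part (U i) F) i).app W (Φ.app W s - t)) = 0
      have hz : (biproduct.π (fun i => part (U i) F) i).app W (Φ.app W s - t) = 0 := by
        rw [map_sub, hπ, sub_eq_zero]
        exact hs i
      rw [hz, map_zero]
    rw [biproduct.total] at h0
    exact sub_eq_zero.1 h0

/-- splitting maps -/
theorem exists_split {n : ℕ} (U : Fin n → X.Opens) (hcov : ∀ x : X, ∃ i, x ∈ U i)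
    (hdis : ∀ i j, i ≠ j → U i ⊓ U j = ⊥) (F : X.Modules) :
    ∃ e : ∀ i, part (U i) F ⟶ F, (∀ i, e i ≫ Devissage.unitE (U i) F = 𝟙 _) ∧
      (∀ i j, i ≠ j → e i ≫ Devissage.unitE (U j) F = 0) ∧ ∑ i, Devissage.unitE (U i) F ≫ e i = 𝟙 F := by
  classical
  letI := CategoryTheory.Abelian.hasFiniteBiproducts (C := X.Modules)
  haveI := isIso_lift_unitE U hcov hdis F
  set Φ := biproduct.lift fun i => Devissage.unitE (U i) F with hΦ
  have h : ∀ j, inv Φ ≫ Devissage.unitE (U j) F = biproduct.π (fun i => part (U i) F) j := fun j => by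
    rw [IsIso.inv_comp_eq, hΦ, biproduct.lift_π]
  refine ⟨fun i => biproduct.ι (fun i => part (U i) F) i ≫ inv Φ, fun i => ?_, fun i j hij => ?_, ?_⟩
  · rw [Category.assoc, h, biproduct.ι_π_self]
  · rw [Category.assoc, h, biproduct.ι_π_ne _ hij]
  · have : ∑ i, Devissage.unitE (U i) F ≫ biproduct.ι (fun i => part (U i) F) i = Φ := biproduct.lift_eq.symm
    simp only [← Category.assoc, ← Preadditive.sum_comp, this, IsIso.hom_inv_id]


/-- an additive invariant on a finite decomposition -/
theorem hp_split {C : Type w} [Category.{v} C] [Abelian C] (I : Groth.Agent.StabLib.Inv C) {ι : Type} [DecidableEq ι] (s : Finset ι) :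
    ∀ (A : C) (A' : ι → C) (e : ∀ i, A' i ⟶ A) (p : ∀ i, A ⟶ A' i), I.ok A → (∀ i ∈ s, I.ok (A' i)) →
      (∀ i ∈ s, e i ≫ p i = 𝟙 _) → (∀ i ∈ s, ∀ j ∈ s, i ≠ j → e i ≫ p j = 0) →
      (∑ i ∈ s, p i ≫ e i = 𝟙 A) → I.hp A = ∑ i ∈ s, I.hp (A' i) := by
  induction s using Finset.induction with
  | empty =>
    intro A A' e p hA _ _ _ ht
    rw [Finset.sum_empty]
    exact I.hp_zero ((IsZero.iff_id_eq_zero A).2 (ht.symm.trans Finset.sum_empty)) hA
  | @insert j s hj ih =>
    intro A A' e p hA hok hid hne ht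
    have hjm : j ∈ insert j s := Finset.mem_insert_self j s
    haveI : Epi (p j) := epi_of_epi_fac (hid j hjm)
    have hK := I.ok_kernel (p j) hA (hok j hjm)
    rw [I.hp_kernel (p j) hA (hok j hjm), Finset.sum_insert hj, add_comm]
    congr 1
    refine ih (kernel (p j)) A' (fun i => if h : i ∈ s then kernel.lift (p j) (e i)
        (hne i (Finset.mem_insert_of_mem h) j hjm (fun h' => hj (h' ▸ h))) else 0)
      (fun i => kernel.ι (p j) ≫ p i) hK (fun i hi => hok i (Finset.mem_insert_of_mem hi)) ?_ ?_ ?_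
    · intro i hi
      rw [dif_pos hi, kernel.lift_ι_assoc, hid i (Finset.mem_insert_of_mem hi)]
    · intro i hi i' hi' hii'
      rw [dif_pos hi, kernel.lift_ι_assoc, hne i (Finset.mem_insert_of_mem hi) i' (Finset.mem_insert_of_mem hi') hii']
    · rw [← cancel_mono (kernel.ι (p j)), Preadditive.sum_comp, Category.id_comp]
      conv_rhs => rw [← Category.comp_id (kernel.ι (p j)), ← ht, Finset.sum_insert hj, Preadditive.comp_add,
        kernel.condition_assoc, zero_comp, zero_add, Preadditive.comp_sum]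
      refine Finset.sum_congr rfl fun i hi => ?_
      rw [dif_pos hi]
      simp

end Groth.Agent.ClopenSplit
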