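import Groth.Agent.ClopenSplit.Rank
import Groth.Agent.CurveRR.SmoothPt
import Groth.Agent.Nakai.HodgeIndex
import Groth.Agent.GRLib.Supp

/-!
# A semistable line bundle with vanishing Euler characteristic on every component
-/

set_option autoImplicit false
set_option backward.isDefEq.respectTransparency false
set_option backward.isDefEq.respectTransparency.types false

universe u

open CategoryTheory CategoryTheory.Limits AlgebraicGeometry TopologicalSpace Opposite

noncomputable section

namespace Groth.Agent.ClopenSplit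

variable {X : Scheme.{u}}

theorem isZero_restrict_push (U V : X.Opens) (h : V ⊓ U = ⊥) (A : U.toScheme.Modules) :
    IsZero (((Scheme.Modules.pushforward U.ι).obj A).restrict V.ι) := by
  refine (IsZero.iff_id_eq_zero _).2 (Scheme.Modules.hom_ext _ _ fun W => ?_)
  ext s
  refine QC.section_eq_of_locally (M := ((Scheme.Modules.pushforward U.ι).obj A).restrict V.ι) fun x hx => ?_
  refine ⟨W, le_rfl, hx, ?_⟩
  suffices Subsingleton Γ(((Scheme.Modules.pushforward U.ι).obj A).restrict V.ι, W) from Subsingleton.elim _ _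
  show Subsingleton Γ(A, U.ι ⁻¹ᵁ V.ι ''ᵁ W)
  refine ⟨fun a b => QC.section_eq_of_locally fun y hy => ?_⟩
  obtain ⟨w, -, hw⟩ := hy
  have hy2 : U.ι y ∈ V ⊓ U := ⟨hw ▸ w.2, y.2⟩
  rw [h] at hy2
  exact hy2.elim

theorem isFinLocFreeOfRank_of_parts {n : ℕ} (U : Fin n → X.Opens) (hcov : ∀ x : X, ∃ i, x ∈ U i) {R : X.Modules}
    {m : ℕ} (h : ∀ i, FlatMod.IsFinLocFreeOfRank m (R.restrict (U i).ι)) : FlatMod.IsFinLocFreeOfRank m R := fun x => by
  obtain ⟨i, hi⟩ := hcov x
  obtain ⟨V, hV, ⟨e⟩⟩ := h i ⟨x, hi⟩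
  refine ⟨(U i).ι ''ᵁ V, ⟨⟨x, hi⟩, hV, rfl⟩, ⟨?_⟩⟩
  exact (Scheme.Modules.restrictFunctorCongr (Scheme.Hom.isoImage_inv_ι (U i).ι V)).symm.app R ≪≫
    (Scheme.Modules.restrictFunctorComp ((U i).ι.isoImage V).inv (V.ι ≫ (U i).ι)).app R ≪≫
    (Scheme.Modules.restrictFunctor ((U i).ι.isoImage V).inv).mapIso
      ((Scheme.Modules.restrictFunctorComp V.ι (U i).ι).app R ≪≫ e) ≪≫
    (Scheme.Modules.restrictFunctorIsoPullback ((U i).ι.isoImage V).inv).app _ ≪≫
    DerPerf.pullFreeIso ((U i).ι.isoImage V).inv m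

theorem restrict_sum [HasFiniteBiproducts X.Modules] {n : ℕ} (U : Fin n → X.Opens)
    (hdis : ∀ i j, i ≠ j → U i ⊓ U j = ⊥) (A : ∀ i, (U i).toScheme.Modules) (j : Fin n) :
    Nonempty ((⨁ fun i => (Scheme.Modules.pushforward (U i).ι).obj (A i)).restrict (U j).ι ≅ A j) := by
  classical
  let M := fun i => (Scheme.Modules.pushforward (U i).ι).obj (A i)
  let R := Scheme.Modules.restrictFunctor (U j).ι
  let e : R.obj (⨁ M) ≅ R.obj (M j) :=
    { hom := R.map (biproduct.π M j)
      inv := R.map (biproduct.ι M j)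
      hom_inv_id := by
        rw [← R.map_comp]
        have h : R.map (∑ i, biproduct.π M i ≫ biproduct.ι M i) = 𝟙 _ := by rw [biproduct.total, R.map_id]
        rw [Functor.map_sum, Finset.sum_eq_single j (fun i _ hij => ?_) (fun h => absurd (Finset.mem_univ j) h)] at h
        · exact h
        · rw [R.map_comp, (isZero_restrict_push (U i) (U j) (hdis j i hij.symm) (A i)).eq_of_tgt
            (R.map (biproduct.π M i)) 0, zero_comp]
      inv_hom_id := by rw [← R.map_comp, biproduct.ι_π_self, R.map_id] }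
  exact ⟨e ≪≫ asIso ((Scheme.Modules.restrictAdjunction (U j).ι).counit.app (A j))⟩

variable {k : Type u} [Field k] [X.Over (Spec (CommRingCat.of k))]
  [IsProper (X ↘ Spec (CommRingCat.of k))]

theorem mult_part (U : X.Opens) (hUc : IsClosed (U : Set X)) {L M : X.Modules} (hL : PicF.IsInvertible L)
    (hM : Coh.IsQCoh (CohB1.tensorMod ((Scheme.Modules.pullback U.ι).obj L) (M.restrict U.ι))) :
    letI : U.toScheme.Over (Spec (CommRingCat.of k)) := ⟨U.ι ≫ (X ↘ Spec (CommRingCat.of k))⟩
    Curv2.euler k X (CohB1.tensorMod (part U M) L) =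
      Curv2.euler k U.toScheme (CohB1.tensorMod ((Scheme.Modules.pullback U.ι).obj L) (M.restrict U.ι)) := by
  haveI : IsClosedImmersion U.ι := IsClosedImmersion.of_isPreimmersion U.ι (by rw [Scheme.Opens.range_ι]; exact hUc)
  rw [CurveRR.euler_eq_of_iso (TMul.commIso (part U M) L ≪≫
    (S0927.projIso U.ι L (ResDesc.isFinLocFree_of_isInvertible hL)).app (M.restrict U.ι))]
  exact CurveRR.Multi.euler_push k U.ι _ hM

theorem semistable_part {L E : X.Modules} (hL : CohB1.IsAmple L) (hdim : topologicalKrullDim X = 1) {n : ℕ}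
    (U : Fin n → X.Opens) (hcov : ∀ x : X, ∃ i, x ∈ U i) (hdis : ∀ i j, i ≠ j → U i ⊓ U j = ⊥) (hE : Coh.IsCoh E)
    (i : Fin n) (hUc : IsClosed (U i : Set X)) [IsIntegral (U i).toScheme] (hd1 : topologicalKrullDim (U i).toScheme = 1)
    {A : (U i).toScheme.Modules} (hA : PicF.IsInvertible A) (eA : E.restrict (U i).ι ≅ A)
    (hχ : letI : (U i).toScheme.Over (Spec (CommRingCat.of k)) := ⟨(U i).ι ≫ (X ↘ Spec (CommRingCat.of k))⟩
      Curv2.euler k (U i).toScheme A = 0)
    (hi : ¬ IsZero (part (U i) E)) : ShStab.IsSemistable k X L (part (U i) E) 1 := by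
  classical
  haveI := CurveRR.isNoetherian_of_proper k X
  haveI : IsClosedImmersion (U i).ι := IsClosedImmersion.of_isPreimmersion (U i).ι (by rw [Scheme.Opens.range_ι]; exact hUc)
  letI : (U i).toScheme.Over (Spec (CommRingCat.of k)) := ⟨(U i).ι ≫ (X ↘ Spec (CommRingCat.of k))⟩
  haveI : IsProper ((U i).toScheme ↘ Spec (CommRingCat.of k)) :=
    inferInstanceAs (IsProper ((U i).ι ≫ (X ↘ Spec (CommRingCat.of k))))
  haveI := CurveRR.isNoetherian_of_proper k (U i).toScheme
  obtain ⟨e₀, he₀, -, -⟩ := exists_split U hcov hdis E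
  have hMc : Coh.IsCoh (part (U i) E) := isCoh_part _ hE (he₀ i)
  have key : ∀ (F : X.Modules) (j : F ⟶ part (U i) E), Mono j → Coh.IsCoh F → ¬ IsZero F →
      topologicalKrullDim (CohB1.support F) = 1 ∧ (Curv2.euler k X F : ℚ) ≤ 0 := by
    intro F j hj hF hF0
    obtain ⟨e, he, -, ht⟩ := exists_split U hcov hdis F
    have hz : ∀ l, l ≠ i → IsZero (part (U l) F) := fun l hl => by
      haveI := mono_partMap (U l) j
      exact IsZero.of_mono (partMap (U l) j) (Functor.map_isZero (Scheme.Modules.pushforward (U l).ι)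
        (isZero_restrict_push (U i) (U l) (hdis l i hl) (E.restrict (U i).ι)))
    have hid : Devissage.unitE (U i) F ≫ e i = 𝟙 F := by
      rw [← ht]
      exact (Finset.sum_eq_single (f := fun l => Devissage.unitE (U l) F ≫ e l) i (fun l _ hl => by rw [(hz l hl).eq_of_tgt (Devissage.unitE (U l) F) 0, zero_comp])
        (fun h => absurd (Finset.mem_univ i) h)).symm
    let eF : F ≅ part (U i) F := ⟨Devissage.unitE (U i) F, e i, hid, he i⟩
    let G := F.restrict (U i).ι
    have hG : Coh.IsCoh G := ⟨QC.isQCoh_restrict _ hF.1, QC.isFT_restrict _ hF.2⟩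
    let φ : G ⟶ A := (Scheme.Modules.restrictFunctor (U i).ι).map j ≫
      (Scheme.Modules.restrictAdjunction (U i).ι).counit.app (E.restrict (U i).ι) ≫ eA.hom
    haveI : Mono ((Scheme.Modules.restrictFunctor (U i).ι).map j) := by
      refine (QC.mono_iff_app_injective _).2 fun W s t h => ?_
      exact (QC.app_injective_of_mono j _) h
    haveI : Mono φ := mono_comp _ _
    have hφ : φ ≠ 0 := fun h => hF0 <| by
      have hG0 : IsZero G := (IsZero.iff_id_eq_zero G).2 (by rw [← cancel_mono φ, h, comp_zero, comp_zero])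
      exact (Functor.map_isZero (Scheme.Modules.pushforward (U i).ι) hG0).of_iso eF
    have hsur := CurveRR.surjective_stalk_generic hA φ hφ
    have hη : genericPoint (U i).toScheme ∈ CohB1.support G := fun hs => by
      obtain ⟨W, hW, ⟨f⟩⟩ := CurveRR.isFinLocFreeOfRank_one hA (genericPoint (U i).toScheme)
      obtain ⟨b⟩ := LocFree.exists_basis_stalk f (CurveRR.isCoh_of_inv hA).1 hW
      haveI : Subsingleton (G.presheaf.stalk (genericPoint (U i).toScheme)) := hs
      haveI := hsur.subsingleton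
      exact b.ne_zero ⟨0⟩ (Subsingleton.elim _ _)
    refine ⟨le_antisymm ((topologicalKrullDim_subspace_le X _).trans hdim.le) ?_, ?_⟩
    · have hall : ∀ c : (U i).toScheme, (U i).ι c ∈ CohB1.support F := fun c => by
        refine (GRLib.mem_support_restrict_iff (U i).ι F c).1 ?_
        exact (genericPoint_specializes c).mem_closed (QC.isClosed_support hG.2) hη
      rw [← hd1]
      exact ((U i).ι.isEmbedding.codRestrict _ hall).isInducing.topologicalKrullDim_le
    · have hC : Coh.IsCoh (cokernel φ) := QC.isCoh_cokernel hG.1 (CurveRR.isCoh_of_inv hA) φ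
      have hcl := QC.isClosed_support hC.2
      have hd := CurveRR.dim_le_zero_of_closed hd1.le hcl (CurveRR.notMem_support_coker φ _ hsur)
      have hS : (ShortComplex.mk φ (cokernel.π φ) (cokernel.condition φ)).ShortExact :=
        { exact := ShortComplex.exact_cokernel φ, mono_f := inferInstance, epi_g := inferInstance }
      have hadd := CurveRR.euler_add (k := k) hS hG (CurveRR.isCoh_of_inv hA) hC
      have hQ : Curv2.euler k (U i).toScheme (cokernel φ) = CurveRR.h k (cokernel φ) 0 := CurveRR.euler_eq_h0 fun q hq =>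
        SuppZero.subsingleton_hh_of_supported hcl hd _ (fun _ hy => hy) q hq
      change Curv2.euler k (U i).toScheme A = Curv2.euler k (U i).toScheme G + Curv2.euler k (U i).toScheme (cokernel φ) at hadd
      rw [CurveRR.euler_eq_of_iso eF, CurveRR.Multi.euler_push k (U i).ι G hG.1]
      exact_mod_cast (show Curv2.euler k (U i).toScheme G ≤ 0 by omega)
  have hM0 : (Curv2.euler k X (part (U i) E) : ℚ) = 0 := by
    rw [CurveRR.Multi.euler_push k (U i).ι _ (QC.isQCoh_restrict _ hE.1), CurveRR.euler_eq_of_iso eA, hχ, Int.cast_zero]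
  refine ⟨hMc, hi, fun F j hj hF hF0 => (key F j hj hF hF0).1.trans Nat.cast_one.symm, fun F j hj hF hF0 _ p q hp hq => ?_⟩
  rw [(StabLib.Sh.hilb_iff k hL.1 hF p).1 hp, (StabLib.Sh.hilb_iff k hL.1 hMc q).1 hq, hp_eq hL hdim.le hF,
    hp_eq hL hdim.le hMc, redLE_iff, hM0, mul_zero]
  refine mul_nonpos_of_nonneg_of_nonpos ?_ (key F j hj hF hF0).2
  obtain ⟨hd, hp'⟩ := StabLib.Sh.hp_pos_deg k hL hMc ((key _ (𝟙 _) inferInstance hMc hi).1.trans Nat.cast_one.symm)
  rw [StabLib.Pos, Polynomial.leadingCoeff, hd, hp_eq hL hdim.le hMc, coeff_one_lin] at hp'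
  exact hp'.le

variable (k) in
theorem exists_bundle [IsAlgClosed k] [Smooth (X ↘ Spec (CommRingCat.of k))] (hdim : topologicalKrullDim X = 1)
    (hpure : ∀ y : X, ¬ IsOpen ({y} : Set X)) {L : X.Modules} (hL : CohB1.IsAmple L) {n : ℕ} (U : Fin n → X.Opens)
    (hcov : ∀ x : X, ∃ i, x ∈ U i) (hdis : ∀ i j, i ≠ j → U i ⊓ U j = ⊥)
    (hcc : ∀ i, IsClopen (U i : Set X) ∧ _root_.IsConnected (U i : Set X)) :
    ∃ E : X.Modules, FlatMod.IsFinLocFree E ∧ (∀ x : X, ¬ Subsingleton (E.presheaf.stalk x)) ∧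
      ShStab.IsSemistable k X L E 1 ∧ ∀ i, Curv2.euler k X (part (U i) E) = 0 := by
  classical
  haveI := CurveRR.isNoetherian_of_proper k X
  letI := CategoryTheory.Abelian.hasFiniteBiproducts (C := X.Modules)
  haveI hci : ∀ i, IsClosedImmersion (U i).ι := fun i =>
    IsClosedImmersion.of_isPreimmersion (U i).ι (by rw [Scheme.Opens.range_ι]; exact (hcc i).1.1)
  haveI : ∀ i, ConnectedSpace (U i).toScheme := fun i => isConnected_iff_connectedSpace.1 (hcc i).2
  letI : ∀ i, (U i).toScheme.Over (Spec (CommRingCat.of k)) := fun i => ⟨(U i).ι ≫ (X ↘ Spec (CommRingCat.of k))⟩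
  haveI : ∀ i, IsProper ((U i).toScheme ↘ Spec (CommRingCat.of k)) := fun i =>
    inferInstanceAs (IsProper ((U i).ι ≫ (X ↘ Spec (CommRingCat.of k))))
  haveI : ∀ i, Smooth ((U i).toScheme ↘ Spec (CommRingCat.of k)) := fun i =>
    inferInstanceAs (Smooth ((U i).ι ≫ (X ↘ Spec (CommRingCat.of k))))
  haveI : ∀ i, IsIntegral (U i).toScheme := fun i => Nakai.isIntegral_of_smooth_connected k
  have hd : ∀ i, topologicalKrullDim (U i).toScheme ≤ 1 := fun i =>
    (U i).ι.isEmbedding.isInducing.topologicalKrullDim_le.trans hdim.le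
  have hd1 : ∀ i, topologicalKrullDim (U i).toScheme = 1 := by
    intro i
    refine le_antisymm (hd i) ?_
    by_contra hlt
    have hsub : ∀ a b : (U i).toScheme, a = b := by
      have hgen : ∀ a : (U i).toScheme, closure ({a} : Set (U i).toScheme) = Set.univ := by
        intro a
        by_contra hne
        refine hlt (Order.one_le_krullDim_iff.2
          ⟨⟨closure {a}, isIrreducible_singleton.closure, isClosed_closure⟩,
            ⟨Set.univ, IrreducibleSpace.isIrreducible_univ _, isClosed_univ⟩, ?_⟩)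
        exact lt_of_le_of_ne (Set.subset_univ _) fun h => hne (congrArg IrreducibleCloseds.carrier h)
      exact fun a b => (show IsGenericPoint a Set.univ from hgen a).eq (hgen b)
    obtain ⟨x, hx⟩ := (hcc i).2.nonempty
    refine hpure x ?_
    convert (U i).2
    exact Set.Subset.antisymm (by simpa using hx) fun y hy => by
      have := hsub ⟨y, hy⟩ ⟨x, hx⟩
      exact congrArg Subtype.val this
  choose A hA hA0 hA1 using fun i => CurveRR.exists_nonspecial (k := k) (X := (U i).toScheme) (hd1 i) 0 zero_le_one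
  let E := ⨁ fun i => (Scheme.Modules.pushforward (U i).ι).obj (A i)
  let eA := fun j => (restrict_sum U hdis A j).some
  have hE1 : FlatMod.IsFinLocFreeOfRank 1 E := isFinLocFreeOfRank_of_parts U hcov fun i x =>
    let ⟨W, hW, ⟨f⟩⟩ := CurveRR.isFinLocFreeOfRank_one (hA i) x
    ⟨W, hW, ⟨(Scheme.Modules.restrictFunctor W.ι).mapIso (eA i) ≪≫ f⟩⟩
  have hE : FlatMod.IsFinLocFree E := fun x => let ⟨W, hW, f⟩ := hE1 x; ⟨W, 1, hW, f⟩
  have hχA : ∀ i, Curv2.euler k (U i).toScheme (A i) = 0 := fun i => by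
    rw [CurveRR.euler_eq (hd i), hA0, show CurveRR.h k (A i) 1 = 0 from CurveRR.h_eq_zero (hA1 i)]
    simp
  have hχ : ∀ i, Curv2.euler k X (part (U i) E) = 0 := fun i => by
    refine (CurveRR.Multi.euler_push k (U i).ι _ (QC.isQCoh_restrict _ (LocFree.isQCoh_of_isFinLocFree hE))).trans ?_
    exact (CurveRR.euler_eq_of_iso (eA i)).trans (hχA i)
  have hst : ∀ x : X, ¬ Subsingleton (E.presheaf.stalk x) := fun x hs => by
    obtain ⟨W, hxW, ⟨e⟩⟩ := hE1 x
    obtain ⟨b⟩ := LocFree.exists_basis_stalk e (LocFree.isQCoh_of_isFinLocFree hE) hxW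
    exact b.ne_zero ⟨0⟩ (Subsingleton.elim _ _)
  have hEc := K0Coh.isCoh_of_isFinLocFree hE
  obtain ⟨x₀⟩ : Nonempty X := by
    by_contra hn
    rw [not_nonempty_iff] at hn
    haveI : IsEmpty (TopologicalSpace.IrreducibleCloseds X) := ⟨fun Z => isEmptyElim Z.isIrreducible.nonempty.some⟩
    have hbot : topologicalKrullDim X = ⊥ := Order.krullDim_eq_bot
    rw [hbot] at hdim
    cases hdim
  refine ⟨E, hE, hst, (semistable_iff k hL hdim U hcov hdis hEc fun hz => ?_).2 fun i hi => ⟨?_, ?_⟩, hχ⟩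
  · exact hst x₀ (ModuleCat.subsingleton_of_isZero ((DerSch.stalkFunctor X x₀).map_isZero hz))
  · exact semistable_part (k := k) hL hdim U hcov hdis hEc i (hcc i).1.1 (hd1 i) (hA i) (eA i) (hχA i) hi
  · have h0 : Curv2.euler k X E = 0 := by
      have := (sums (k := k) hL hdim.le U hcov hdis hEc).2
      simp only [hχ, Int.cast_zero, Finset.sum_const_zero, Int.cast_eq_zero] at this
      exact this
    rw [hχ, h0, zero_mul, zero_mul]

end Groth.Agent.ClopenSplit
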