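import Groth.Agent.ClopenSplit.Stable
import Groth.Agent.CurveRR.Multi2
import Groth.Agent.LocFree.SemiLocal
import Groth.Agent.S0927
import Groth.Agent.NormDef.Excess
import Groth.Agent.DerPerf.Local
import Groth.Agent.ResDesc.ResProp
import Groth.Agent.ResDesc.Main

/-!
# Euler characteristics of the parts of tensor products
-/

set_option autoImplicit false
set_option backward.isDefEq.respectTransparency false
set_option backward.isDefEq.respectTransparency.types false

universe u

open CategoryTheory CategoryTheory.Limits AlgebraicGeometry TopologicalSpace Opposite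

noncomputable section

namespace Groth.Agent.ClopenSplit

theorem exists_rank {C : Scheme.{u}} [PreconnectedSpace C] [Nonempty C] {E : C.Modules} (hE : FlatMod.IsFinLocFree E) :
    ∃ r : ℕ, FlatMod.IsFinLocFreeOfRank r E := by
  let f : C → ℕ := fun x => Module.finrank (C.presheaf.stalk x) (E.presheaf.stalk x)
  have key : ∀ (W : C.Opens) (n : ℕ), Nonempty (E.restrict W.ι ≅ FlatMod.freeMod (↑W) n) → ∀ y ∈ W, f y = n := by
    rintro W n ⟨e⟩ y hy
    obtain ⟨b⟩ := LocFree.exists_basis_stalk e (LocFree.isQCoh_of_isFinLocFree hE) hy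
    simp [f, Module.finrank_eq_card_basis b]
  have hf : IsLocallyConstant f := (IsLocallyConstant.iff_exists_open f).2 fun x => by
    obtain ⟨W, n, hx, h⟩ := hE x
    exact ⟨W, W.2, hx, fun y hy => (key W n h y hy).trans (key W n h x hx).symm⟩
  obtain ⟨x₀⟩ := ‹Nonempty C›
  refine ⟨f x₀, fun x => ?_⟩
  obtain ⟨W, n, hx, h⟩ := hE x
  exact ⟨W, hx, (show n = f x₀ from (key W n h x hx).symm.trans (hf.apply_eq_of_preconnectedSpace x x₀)) ▸ h⟩

variable {k : Type u} [Field k] {X : Scheme.{u}} [X.Over (Spec (CommRingCat.of k))]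
  [IsProper (X ↘ Spec (CommRingCat.of k))]

theorem part_formulas (hdim : topologicalKrullDim X ≤ 1) (U : X.Opens) (hUc : IsClosed (U : Set X))
    (hUconn : _root_.IsConnected (U : Set X)) {L E F : X.Modules} (hL : PicF.IsInvertible L)
    (hE : FlatMod.IsFinLocFree E) (hF : FlatMod.IsFinLocFree F) :
    ∃ r s : ℕ, ∃ ℓ : ℤ, mult k L (part U (Coh.structureModule X)) = ℓ ∧
      Curv2.euler k X (part U L) - Curv2.euler k X (part U (Coh.structureModule X)) = ℓ ∧
      mult k L (part U E) = r * ℓ ∧ mult k L (part U F) = s * ℓ ∧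
      mult k L (part U (CohB1.tensorMod E F)) = r * s * ℓ ∧
      Curv2.euler k X (part U (CohB1.tensorMod E F)) = r * Curv2.euler k X (part U F) + s * Curv2.euler k X (part U E)
        - r * s * Curv2.euler k X (part U (Coh.structureModule X)) := by
  haveI : IsClosedImmersion U.ι := IsClosedImmersion.of_isPreimmersion U.ι (by rw [Scheme.Opens.range_ι]; exact hUc)
  haveI : ConnectedSpace U.toScheme := isConnected_iff_connectedSpace.1 hUconn
  let i := U.ι
  let g := i ≫ (X ↘ Spec (CommRingCat.of k))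
  letI : U.toScheme.Over (Spec (CommRingCat.of k)) := ⟨g⟩
  haveI : IsProper (U.toScheme ↘ Spec (CommRingCat.of k)) := inferInstanceAs (IsProper g)
  have hd : topologicalKrullDim U.toScheme ≤ 1 := (i.isEmbedding.isInducing.topologicalKrullDim_le).trans hdim
  let P := Scheme.Modules.pullback i
  have h1 : ∀ {M : X.Modules}, Coh.IsQCoh M → Curv2.euler k X (part U M) = Curv2.euler k U.toScheme (P.obj M) :=
    fun {M} hM => (CurveRR.Multi.euler_push k i _ (QC.isQCoh_restrict i hM)).trans
      (CurveRR.euler_eq_of_iso ((Scheme.Modules.restrictFunctorIsoPullback i).app M))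
  have hlfl := ResDesc.isFinLocFree_of_isInvertible hL
  have h2 : ∀ {M : X.Modules}, FlatMod.IsFinLocFree M → Curv2.euler k X (CohB1.tensorMod (part U M) L) =
      Curv2.euler k U.toScheme (CohB1.tensorMod (P.obj M) (P.obj L)) := fun {M} hM => by
    rw [CurveRR.euler_eq_of_iso (TMul.commIso (part U M) L ≪≫ (S0927.projIso i L hlfl).app (M.restrict i))]
    refine (CurveRR.Multi.euler_push k i _ ?_).trans (CurveRR.euler_eq_of_iso
      (PicGrp.tensorModIso (Iso.refl _) ((Scheme.Modules.restrictFunctorIsoPullback i).app M) ≪≫ TMul.commIso _ _))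
    exact QC.isQCoh_of_iso (PicGrp.tensorModIso (Iso.refl _) ((Scheme.Modules.restrictFunctorIsoPullback i).app M)).symm
      (LocFree.isQCoh_of_isFinLocFree (DerPerf.isFinLocFree_tensor (DerPerf.isFinLocFree_pullback i hlfl) (DerPerf.isFinLocFree_pullback i hM)))
  obtain ⟨r, he⟩ := exists_rank (DerPerf.isFinLocFree_pullback i hE)
  obtain ⟨s, hf⟩ := exists_rank (DerPerf.isFinLocFree_pullback i hF)
  have hl : PicF.IsInvertible (P.obj L) := PicLoc.isInvertible_pullback i hL
  have hl1 := CurveRR.isFinLocFreeOfRank_one hl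
  have hfl := NormDef.isFinLocFreeOfRank_tensor_inv hf hl
  have dt : ∀ {n m : ℕ} {A B : U.toScheme.Modules}, FlatMod.IsFinLocFreeOfRank n A → FlatMod.IsFinLocFreeOfRank m B →
      Curv2.euler k U.toScheme (CohB1.tensorMod A B) = n * Curv2.euler k U.toScheme B + m * Curv2.euler k U.toScheme A
        - n * m * Curv2.euler k U.toScheme (Coh.structureModule U.toScheme) := by
    intro n m A B hA hB
    have h := CurveRR.Multi.deg_tensor k hd n m A B hA hB
    rw [Curv2.deg, Curv2.deg, Curv2.deg] at h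
    push_cast at h
    linear_combination h
  have hqE := LocFree.isQCoh_of_isFinLocFree hE
  have hqF := LocFree.isQCoh_of_isFinLocFree hF
  have hqO : Coh.IsQCoh (Coh.structureModule X) := QC.isQCoh_unit _
  have hlT : FlatMod.IsFinLocFree (CohB1.tensorMod E F) := DerPerf.isFinLocFree_tensor hE hF
  have hlO := ResDesc.isFinLocFree_structureModule X
  have hqT := LocFree.isQCoh_of_isFinLocFree hlT
  have eT : Curv2.euler k U.toScheme (P.obj (CohB1.tensorMod E F)) =
      Curv2.euler k U.toScheme (CohB1.tensorMod (P.obj E) (P.obj F)) :=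
    CurveRR.euler_eq_of_iso (TMul.nonempty_pullTensorIso i E F).some.symm
  have eTL : Curv2.euler k U.toScheme (CohB1.tensorMod (P.obj (CohB1.tensorMod E F)) (P.obj L)) =
      Curv2.euler k U.toScheme (CohB1.tensorMod (P.obj E) (CohB1.tensorMod (P.obj F) (P.obj L))) :=
    CurveRR.euler_eq_of_iso (PicGrp.tensorModIso (TMul.nonempty_pullTensorIso i E F).some.symm (Iso.refl _) ≪≫
      TMul.assocIso _ _ _)
  have eO : Curv2.euler k U.toScheme (P.obj (Coh.structureModule X)) =
      Curv2.euler k U.toScheme (Coh.structureModule U.toScheme) := CurveRR.euler_eq_of_iso (DerPerf.pullUnitIso i)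
  have eOL : Curv2.euler k U.toScheme (CohB1.tensorMod (P.obj (Coh.structureModule X)) (P.obj L)) =
      Curv2.euler k U.toScheme (P.obj L) :=
    CurveRR.euler_eq_of_iso (PicGrp.tensorModIso (DerPerf.pullUnitIso i) (Iso.refl _) ≪≫ TMul.leftUnitIso _)
  refine ⟨r, s, Curv2.euler k U.toScheme (P.obj L) - Curv2.euler k U.toScheme (Coh.structureModule U.toScheme),
    ?_, ?_, ?_, ?_, ?_, ?_⟩
  · rw [mult, h2 hlO, h1 hqO, eO, eOL]
  · rw [h1 (LocFree.isQCoh_of_isFinLocFree hlfl), h1 hqO, eO]
  · rw [mult, h2 hE, h1 hqE, dt he hl1]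
    push_cast; ring
  · rw [mult, h2 hF, h1 hqF, dt hf hl1]
    push_cast; ring
  · rw [mult, h2 hlT, h1 hqT, eT, eTL, dt he hfl, dt he hf, dt hf hl1]
    push_cast; ring
  · rw [h1 hqT, h1 hqE, h1 hqF, h1 hqO, eT, eO, dt he hf]

end Groth.Agent.ClopenSplit

namespace Groth.Agent.ClopenSplit

variable {k : Type u} [Field k] {X : Scheme.{u}} [X.Over (Spec (CommRingCat.of k))]
  [IsProper (X ↘ Spec (CommRingCat.of k))]

/-- The invariants are sums over the parts. -/
theorem sums {L : X.Modules} (hL : CohB1.IsAmple L) (hdim : topologicalKrullDim X ≤ 1) {n : ℕ} (U : Fin n → X.Opens)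
    (hcov : ∀ x : X, ∃ i, x ∈ U i) (hdis : ∀ i j, i ≠ j → U i ⊓ U j = ⊥) {F : X.Modules} (hF : Coh.IsCoh F) :
    (mult k L F : ℚ) = ∑ i, (mult k L (part (U i) F) : ℚ) ∧
      (Curv2.euler k X F : ℚ) = ∑ i, (Curv2.euler k X (part (U i) F) : ℚ) := by
  classical
  haveI := CurveRR.isNoetherian_of_proper k X
  obtain ⟨e, he, hne, ht⟩ := exists_split U hcov hdis F
  have hc : ∀ i, Coh.IsCoh (part (U i) F) := fun i => isCoh_part _ hF (he i)
  have h : StabLib.Sh.hp k L F = ∑ i, StabLib.Sh.hp k L (part (U i) F) :=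
    hp_split (StabLib.Sh.inv k hL) Finset.univ F (fun i => part (U i) F) e (fun i => Devissage.unitE (U i) F) hF
      (fun i _ => hc i) (fun i _ => he i) (fun i _ j _ hij => hne i j hij) ht
  rw [hp_eq hL hdim hF, Finset.sum_congr rfl fun i _ => hp_eq hL hdim (hc i)] at h
  exact ⟨by simpa only [coeff_one_lin, Polynomial.finsetSum_coeff] using congrArg (fun P => P.coeff 1) h,
    by simpa only [coeff_zero_lin, Polynomial.finsetSum_coeff] using congrArg (fun P => P.coeff 0) h⟩

theorem not_isZero_part (U : X.Opens) {E : X.Modules} {x : X} (hx : x ∈ U)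
    (h : ¬ Subsingleton (E.presheaf.stalk x)) : ¬ IsZero (part U E) := by
  intro hz
  refine h (subsingleton_of_forall_eq 0 fun m => ?_)
  obtain ⟨W, hxW, a, rfl⟩ := E.presheaf.exists_germ_eq (x := x) m
  refine (Devissage.unitE_eq_zero_iff U E a).1 ?_ x hxW hx
  rw [hz.eq_of_tgt (Devissage.unitE U E) 0]
  rfl

theorem mult_pos {L : X.Modules} (hL : CohB1.IsAmple L) (hdim : topologicalKrullDim X ≤ 1) {E : X.Modules}
    (h : ShStab.IsSemistable k X L E 1) : (0 : ℚ) < mult k L E := by
  obtain ⟨hd, hp'⟩ := StabLib.Sh.hp_pos_deg k hL h.1 (h.2.2.1 E (𝟙 E) inferInstance h.1 h.2.1)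
  rw [StabLib.Pos, Polynomial.leadingCoeff, hd, hp_eq hL hdim h.1, coeff_one_lin] at hp'
  exact hp'

end Groth.Agent.ClopenSplit
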