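import Groth.Agent.ClopenSplit.Basic
import Groth.Agent.StabLib.Sheaf
import Groth.Agent.DeltaNorm.NodalCount
import Groth.Agent.K0Coh.Basic
import Groth.Agent.FPExt.Extend
import Groth.Agent.TMul.Pullback

/-!
# Semistability in dimension one on a disconnected scheme
-/

set_option autoImplicit false
set_option backward.isDefEq.respectTransparency false
set_option backward.isDefEq.respectTransparency.types false

universe u

open CategoryTheory CategoryTheory.Limits AlgebraicGeometry TopologicalSpace Opposite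
open scoped Polynomial

noncomputable section

namespace Groth.Agent.ClopenSplit

variable (k : Type u) [Field k] {X : Scheme.{u}} [X.Over (Spec (CommRingCat.of k))]
  [IsProper (X ↘ Spec (CommRingCat.of k))]

/-- the multiplicity -/
def mult (L F : X.Modules) : ℤ := Curv2.euler k X (CohB1.tensorMod F L) - Curv2.euler k X F

variable {k} {L : X.Modules}

theorem euler_twist (F : X.Modules) :
    Curv2.euler k X (ShStab.twist X L F 0) = Curv2.euler k X F ∧
      Curv2.euler k X (ShStab.twist X L F 1) = Curv2.euler k X (CohB1.tensorMod F L) :=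
  ⟨CurveRR.euler_eq_of_iso (TMul.commIso F _ ≪≫ TMul.leftUnitIso F),
    CurveRR.euler_eq_of_iso (PicGrp.tensorModIso (Iso.refl F) (TMul.leftUnitIso L))⟩

theorem hp_eq (hL : CohB1.IsAmple L) (hdim : topologicalKrullDim X ≤ 1) {F : X.Modules} (hF : Coh.IsCoh F) :
    StabLib.Sh.hp k L F = Polynomial.C (mult k L F : ℚ) * Polynomial.X + Polynomial.C (Curv2.euler k X F : ℚ) := by
  have hd := StabLib.Sh.natDegree_hp_le k hL.1 hF (D := 1)
    ((topologicalKrullDim_subspace_le X (CohB1.support F)).trans (by exact_mod_cast hdim))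
  obtain ⟨a, b, hab⟩ := Polynomial.exists_eq_X_add_C_of_natDegree_le_one hd
  have h0 := StabLib.Sh.isHilbPoly_hp k hL.1 hF 0
  have h1 := StabLib.Sh.isHilbPoly_hp k hL.1 hF 1
  rw [hab, (euler_twist (k := k) (L := L) F).1] at h0
  rw [hab, (euler_twist (k := k) (L := L) F).2] at h1
  simp at h0 h1
  rw [hab, mult, Int.cast_sub, h0, h1, add_sub_cancel_right]

theorem coeff_one_lin (a c : ℚ) : (Polynomial.C a * Polynomial.X + Polynomial.C c).coeff 1 = a := by
  rw [Polynomial.coeff_add, Polynomial.coeff_C_mul, Polynomial.coeff_X_one, mul_one, Polynomial.coeff_C,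
    if_neg one_ne_zero, add_zero]

theorem coeff_zero_lin (a c : ℚ) : (Polynomial.C a * Polynomial.X + Polynomial.C c).coeff 0 = c := by
  rw [Polynomial.coeff_add, Polynomial.coeff_C_mul, Polynomial.coeff_X_zero, mul_zero, Polynomial.coeff_C_zero, zero_add]

theorem redLE_iff (a c a' c' : ℚ) :
    StabCat.RedLE 1 (Polynomial.C a * Polynomial.X + Polynomial.C c) (Polynomial.C a' * Polynomial.X + Polynomial.C c') ↔
      a' * c ≤ a * c' := by
  have ha : ∀ a c : ℚ, StabCat.alpha 1 (Polynomial.C a * Polynomial.X + Polynomial.C c) = a := fun a c => by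
    simp [StabCat.alpha]
  simp only [StabCat.RedLE, StabCat.PolyLE, ha, Polynomial.eval_smul, Polynomial.eval_add, Polynomial.eval_mul,
    Polynomial.eval_C, Polynomial.eval_X, smul_eq_mul]
  exact ⟨fun ⟨N, hN⟩ => by have := hN N le_rfl; linarith, fun h => ⟨0, fun m _ => by linarith⟩⟩

theorem isCoh_part [IsNoetherian X] (U : X.Opens) {F : X.Modules} (hF : Coh.IsCoh F)
    {e : part U F ⟶ F} (he : e ≫ Devissage.unitE U F = 𝟙 _) : Coh.IsCoh (part U F) := by
  haveI : F.IsQuasicoherent := hF.1
  haveI : Epi (Devissage.unitE U F) := epi_of_epi_fac he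
  haveI : QuasiCompact U.ι := FPExt.quasiCompact_ι (NoetherianSpace.isCompact _)
  exact ⟨QC.isQCoh_pushforward (hM := QC.isQCoh_restrict U.ι hF.1) U.ι, QC.isFT_of_epi (Devissage.unitE U F) hF.2⟩

variable (k) in
theorem semistable_iff (hL : CohB1.IsAmple L) (hdim : topologicalKrullDim X = 1) {n : ℕ} (U : Fin n → X.Opens)
    (hcov : ∀ x : X, ∃ i, x ∈ U i) (hdis : ∀ i j, i ≠ j → U i ⊓ U j = ⊥) {E : X.Modules} (hE : Coh.IsCoh E)
    (hE0 : ¬ IsZero E) :
    ShStab.IsSemistable k X L E 1 ↔ ∀ i, ¬ IsZero (part (U i) E) →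
      ShStab.IsSemistable k X L (part (U i) E) 1 ∧
        Curv2.euler k X (part (U i) E) * mult k L E = Curv2.euler k X E * mult k L (part (U i) E) := by
  classical
  haveI := CurveRR.isNoetherian_of_proper k X
  let I := StabLib.Sh.inv k hL
  choose e he hne ht using fun F : X.Modules => exists_split U hcov hdis F
  have hc : ∀ (i) {F : X.Modules}, Coh.IsCoh F → Coh.IsCoh (part (U i) F) := fun i F hF => isCoh_part _ hF (he F i)
  have hP : ∀ {F : X.Modules}, Coh.IsCoh F → StabLib.Sh.hp k L F =
      Polynomial.C (mult k L F : ℚ) * Polynomial.X + Polynomial.C (Curv2.euler k X F : ℚ) :=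
    fun hF => hp_eq hL hdim.le hF
  have hsum : ∀ {F : X.Modules}, Coh.IsCoh F → (mult k L F : ℚ) = ∑ i, (mult k L (part (U i) F) : ℚ) ∧
      (Curv2.euler k X F : ℚ) = ∑ i, (Curv2.euler k X (part (U i) F) : ℚ) := fun {F} hF => by
    have h : StabLib.Sh.hp k L F = ∑ i, StabLib.Sh.hp k L (part (U i) F) :=
      hp_split I Finset.univ F (fun i => part (U i) F) (e F) (fun i => Devissage.unitE (U i) F) hF
        (fun i _ => hc i hF) (fun i _ => he F i) (fun i _ j _ hij => hne F i j hij) (ht F)
    rw [hP hF, Finset.sum_congr rfl fun i _ => hP (hc i hF)] at h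
    exact ⟨by simpa only [coeff_one_lin, coeff_zero_lin, Polynomial.finsetSum_coeff, Polynomial.coeff_zero] using congrArg (fun P : ℚ[X] => P.coeff 1) h, by simpa only [coeff_one_lin, coeff_zero_lin, Polynomial.finsetSum_coeff, Polynomial.coeff_zero] using congrArg (fun P : ℚ[X] => P.coeff 0) h⟩
  have hzero : ∀ {F : X.Modules}, Coh.IsCoh F → IsZero F → (mult k L F : ℚ) = 0 ∧ (Curv2.euler k X F : ℚ) = 0 := by
    intro F hF h0
    have h : StabLib.Sh.hp k L F = 0 := I.hp_zero h0 hF
    rw [hP hF] at h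
    exact ⟨by simpa only [coeff_one_lin, coeff_zero_lin, Polynomial.finsetSum_coeff, Polynomial.coeff_zero] using congrArg (fun P : ℚ[X] => P.coeff 1) h, by simpa only [coeff_one_lin, coeff_zero_lin, Polynomial.finsetSum_coeff, Polynomial.coeff_zero] using congrArg (fun P : ℚ[X] => P.coeff 0) h⟩
  have hall : ∀ {E' : X.Modules}, ShStab.IsSemistable k X L E' 1 → ∀ (F : X.Modules) (ι : F ⟶ E'), Mono ι → Coh.IsCoh F →
      (mult k L E' : ℚ) * Curv2.euler k X F ≤ (mult k L F : ℚ) * Curv2.euler k X E' := by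
    intro E' h F ι hι hF
    by_cases h0 : IsZero F
    · obtain ⟨h1, h2⟩ := hzero hF h0; rw [h1, h2]; simp
    by_cases hi : IsIso ι
    · have h' : StabLib.Sh.hp k L F = StabLib.Sh.hp k L E' := I.hp_iso (asIso ι) hF
      rw [hP hF, hP h.1] at h'
      have h1 : (mult k L F : ℚ) = mult k L E' := by simpa only [coeff_one_lin, coeff_zero_lin, Polynomial.finsetSum_coeff, Polynomial.coeff_zero] using congrArg (fun P : ℚ[X] => P.coeff 1) h'
      have h2 : (Curv2.euler k X F : ℚ) = Curv2.euler k X E' := by simpa only [coeff_one_lin, coeff_zero_lin, Polynomial.finsetSum_coeff, Polynomial.coeff_zero] using congrArg (fun P : ℚ[X] => P.coeff 0) h'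
      rw [h1, h2]
    · have := h.2.2.2 F ι hι hF h0 hi _ _ (StabLib.Sh.isHilbPoly_hp k hL.1 hF) (StabLib.Sh.isHilbPoly_hp k hL.1 h.1)
      rwa [hP hF, hP h.1, redLE_iff] at this
  have hpos : ∀ {E' : X.Modules}, Coh.IsCoh E' → ¬ IsZero E' → ShStab.IsPure X E' 1 → (0 : ℚ) < mult k L E' := by
    intro E' h h0 hp
    obtain ⟨hd, hp'⟩ := StabLib.Sh.hp_pos_deg k hL h (hp E' (𝟙 E') inferInstance h h0)
    rw [StabLib.Pos, Polynomial.leadingCoeff, hd, hP h] at hp'
    rwa [coeff_one_lin] at hp'
  constructor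
  · intro h i hi
    have hEpos := hpos hE hE0 h.2.2.1
    have hle : ∀ j, (mult k L E : ℚ) * Curv2.euler k X (part (U j) E) ≤ mult k L (part (U j) E) * Curv2.euler k X E :=
      fun j => hall h _ (e E j) (mono_of_mono_fac (he E j)) (hc j hE)
    have heq : ∀ j, (mult k L E : ℚ) * Curv2.euler k X (part (U j) E) = mult k L (part (U j) E) * Curv2.euler k X E := by
      intro j
      refine (Finset.sum_eq_sum_iff_of_le fun j _ => hle j).1 ?_ j (Finset.mem_univ j)
      rw [← Finset.mul_sum, ← Finset.sum_mul, ← (hsum hE).1, ← (hsum hE).2, mul_comm]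
    haveI : Mono (e E i) := mono_of_mono_fac (he E i)
    refine ⟨⟨hc i hE, hi, fun F ι hι hF h0 => h.2.2.1 F (ι ≫ e E i) inferInstance hF h0,
      fun F ι hι hF h0 hni p q hp hq => ?_⟩, ?_⟩
    · rw [(StabLib.Sh.hilb_iff k hL.1 hF p).1 hp, (StabLib.Sh.hilb_iff k hL.1 (hc i hE) q).1 hq, hP hF, hP (hc i hE),
        redLE_iff]
      haveI := hι
      have h1 := hall h F (ι ≫ e E i) inferInstance hF
      have h2 := heq i
      have h3 : (0 : ℚ) < mult k L (part (U i) E) := hpos (hc i hE) hi
        fun F ι hι hF h0 => h.2.2.1 F (ι ≫ e E i) inferInstance hF h0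
      refine le_of_mul_le_mul_left ?_ hEpos
      have h4 := mul_le_mul_of_nonneg_left h1 h3.le
      have h5 := congrArg (fun z : ℚ => (mult k L F : ℚ) * z) h2
      linarith
    · have := heq i
      exact_mod_cast (show (Curv2.euler k X (part (U i) E) : ℚ) * mult k L E =
        Curv2.euler k X E * mult k L (part (U i) E) by linarith)
  · intro h
    have hpart : ∀ {F : X.Modules}, ¬ IsZero F → ∃ i, ¬ IsZero (part (U i) F) := by
      intro F h0
      by_contra hn
      push Not at hn
      refine h0 ((IsZero.iff_id_eq_zero F).2 ?_)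
      rw [← ht F]
      exact Finset.sum_eq_zero fun i _ => by rw [(hn i).eq_of_tgt (Devissage.unitE (U i) F) 0, zero_comp]
    refine ⟨hE, hE0, fun F ι hι hF h0 => ?_, fun F ι hι hF h0 _ p q hp hq => ?_⟩
    · obtain ⟨i, hi⟩ := hpart h0
      haveI := mono_partMap (U i) ι
      haveI : Mono (e F i) := mono_of_mono_fac (he F i)
      have hEi : ¬ IsZero (part (U i) E) := fun hz => hi (IsZero.of_mono (partMap (U i) ι) hz)
      refine le_antisymm ((topologicalKrullDim_subspace_le X _).trans hdim.le) ?_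
      rw [← (h i hEi).1.2.2.1 _ (partMap (U i) ι) inferInstance (hc i hF) hi]
      exact (Topology.IsEmbedding.inclusion (Devissage.support_subset_of_mono (e F i))).isInducing.topologicalKrullDim_le
    · rw [(StabLib.Sh.hilb_iff k hL.1 hF p).1 hp, (StabLib.Sh.hilb_iff k hL.1 hE q).1 hq, hP hF, hP hE, redLE_iff]
      rw [(hsum hF).2, (hsum hF).1, Finset.mul_sum, Finset.sum_mul]
      refine Finset.sum_le_sum fun i _ => ?_
      haveI := hι
      haveI := mono_partMap (U i) ι
      by_cases hEi : IsZero (part (U i) E)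
      · obtain ⟨h1, h2⟩ := hzero (hc i hF) (IsZero.of_mono (partMap (U i) ι) hEi)
        rw [h1, h2]; simp
      · obtain ⟨hss, heq⟩ := h i hEi
        have h1 := hall hss _ (partMap (U i) ι) inferInstance (hc i hF)
        have h2 : (Curv2.euler k X (part (U i) E) : ℚ) * mult k L E = Curv2.euler k X E * mult k L (part (U i) E) := by
          exact_mod_cast heq
        have h3 : (0 : ℚ) < mult k L (part (U i) E) := hpos (hc i hE) hEi hss.2.2.1
        obtain ⟨j, hj⟩ := hpart hE0
        have hEpos : (0 : ℚ) ≤ mult k L E := by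
          rw [(hsum hE).1]
          refine Finset.sum_nonneg fun l _ => ?_
          by_cases hl : IsZero (part (U l) E)
          · rw [(hzero (hc l hE) hl).1]
          · exact (hpos (hc l hE) hl (h l hl).1.2.2.1).le
        refine le_of_mul_le_mul_left ?_ h3
        have h4 := mul_le_mul_of_nonneg_left h1 hEpos
        have h5 := congrArg (fun z : ℚ => (mult k L (part (U i) F) : ℚ) * z) h2
        linarith

include k in
theorem exists_components [IsAlgClosed k] :
    ∃ (n : ℕ) (U : Fin n → X.Opens), (∀ x : X, ∃ i, x ∈ U i) ∧ (∀ i j, i ≠ j → U i ⊓ U j = ⊥) ∧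
      (∀ i, IsClopen (U i : Set X) ∧ _root_.IsConnected (U i : Set X)) := by
  classical
  obtain ⟨hfin, hopen⟩ := DeltaNorm.finite_connectedComponents (X := X) k
  haveI := hfin
  letI := Fintype.ofFinite (_root_.ConnectedComponents X)
  let c := (Fintype.equivFin (_root_.ConnectedComponents X)).symm
  refine ⟨_, fun i => ⟨ConnectedComponents.mk ⁻¹' {c i}, hopen (c i)⟩, fun x => ⟨c.symm (ConnectedComponents.mk x), by simp⟩,
    fun i j hij => le_bot_iff.1 fun x hx => (hij (c.injective (hx.1.symm.trans hx.2))).elim, fun i => ?_⟩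
  obtain ⟨x, hx⟩ := ConnectedComponents.surjective_coe (c i)
  show IsClopen (ConnectedComponents.mk ⁻¹' {c i}) ∧ _root_.IsConnected (ConnectedComponents.mk ⁻¹' {c i})
  rw [← hx, connectedComponents_preimage_singleton]
  exact ⟨⟨isClosed_connectedComponent, by
    rw [← connectedComponents_preimage_singleton, hx]; exact hopen (c i)⟩, isConnected_connectedComponent⟩

end Groth.Agent.ClopenSplit
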